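import Groth.Prelude.Def_CurvBase
import Groth.Agent.VarDim.Curve
import Groth.Agent.Allied.Basic

/-!
Stalks of normal integral curves over a field.
-/

set_option autoImplicit false

universe u

open CategoryTheory AlgebraicGeometry

namespace Groth.Agent.NormalCurve48

lemma fromSpecStalk_str {k : Type u} [Field k] {X : Scheme.{u}}
    [X.Over (Spec (CommRingCat.of k))] (x : X) :
    X.fromSpecStalk x ≫ (X ↘ Spec (CommRingCat.of k)) =
      Spec.map (CommRingCat.ofHom (Curv2.stalkMap k X x)) := by
  have h : (X ↘ Spec (CommRingCat.of k)) =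
      X.toSpecΓ ≫ Spec.map ((Scheme.ΓSpecIso (CommRingCat.of k)).inv ≫
        (X ↘ Spec (CommRingCat.of k)).appTop) := by
    rw [Spec.map_comp, ← Scheme.toSpecΓ_naturality_assoc, ← SpecMap_ΓSpecIso_hom, ← Spec.map_comp,
      Iso.inv_hom_id, Spec.map_id, Category.comp_id]
  conv_lhs => rw [h, ← Category.assoc, Scheme.fromSpecStalk_toSpecΓ, ← Spec.map_comp]
  rfl

instance isDominant_fromSpecStalk_genericPoint {X : Scheme.{u}} [IsIntegral X] :
    IsDominant (X.fromSpecStalk (genericPoint X)) := ⟨by
  intro q
  refine closure_mono (Set.singleton_subset_iff.mpr ?_)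
    ((genericPoint_spec X).specializes trivial).mem_closure
  exact ⟨IsLocalRing.closedPoint (X.presheaf.stalk (genericPoint X)), Scheme.fromSpecStalk_closedPoint⟩⟩

variable {X : Scheme.{u}} [IsIntegral X]

/-- If all closed points have stalks of dimension one and closed points are dense enough,
every point is the generic point or closed. -/
lemma eq_genericPoint_or_isClosed [CompactSpace X]
    (hX : ∀ x : X, IsClosed ({x} : Set X) → ringKrullDim (X.presheaf.stalk x) = 1) (x : X) :
    x = genericPoint X ∨ IsClosed ({x} : Set X) := by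
  obtain ⟨y, hy, hyc⟩ := IsClosed.exists_closed_singleton
    (isClosed_closure (s := ({x} : Set X))) ⟨x, subset_closure rfl⟩
  by_cases hxy : y = x
  · exact Or.inr (hxy ▸ hyc)
  refine Or.inl ?_
  have hle : y ≤ x := specializes_iff_mem_closure.mpr hy
  have hlt : y < x := lt_of_le_not_ge hle fun h => hxy (Inseparable.eq (Specializes.antisymm h hle) )
  have hηx : x ≤ genericPoint X := (genericPoint_spec X).specializes trivial
  by_contra hne
  have hlt' : x < genericPoint X :=
    lt_of_le_not_ge hηx fun h => hne (Inseparable.eq (Specializes.antisymm h hηx))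
  have h2 : (2 : ℕ∞) ≤ Order.coheight y := by
    have a := Order.coheight_add_one_le hlt
    have b := Order.coheight_add_one_le hlt'
    exact le_trans (by
      calc (2 : ℕ∞) = 1 + 1 := by norm_num
        _ ≤ Order.coheight x + 1 := add_le_add_left (le_trans le_add_self b) 1) a
  have h1 := hX y hyc
  rw [ringKrullDim_stalk_eq_coheight] at h1
  have h1' : Order.coheight y = 1 := WithBot.coe_injective h1
  rw [h1'] at h2
  exact absurd h2 (by decide)

lemma isDiscreteValuationRing_stalk [IsLocallyNoetherian X]
    (hX : ∀ x : X, IsClosed ({x} : Set X) → ringKrullDim (X.presheaf.stalk x) = 1)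
    (hnorm : ∀ x : X, IsIntegrallyClosed (X.presheaf.stalk x)) (x : X) (hx : IsClosed ({x} : Set X)) :
    IsDiscreteValuationRing (X.presheaf.stalk x) := by
  have := hnorm x
  exact VarDim.isDiscreteValuationRing_of_ringKrullDim_eq_one (X.presheaf.stalk x) (hX x hx)

lemma valuationRing_stalk [CompactSpace X] [IsLocallyNoetherian X]
    (hX : ∀ x : X, IsClosed ({x} : Set X) → ringKrullDim (X.presheaf.stalk x) = 1)
    (hnorm : ∀ x : X, IsIntegrallyClosed (X.presheaf.stalk x)) (x : X) :
    ValuationRing (X.presheaf.stalk x) := by
  rcases eq_genericPoint_or_isClosed hX x with rfl | hx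
  · infer_instance
  · have := isDiscreteValuationRing_stalk hX hnorm x hx
    infer_instance

/-- A morphism of integral schemes sends generic point to generic point inducing `φ` iff it restricts to
`Spec φ` at the generic point. -/
lemma genericStalk_iff {Y : Scheme.{u}} [IsIntegral Y] (u : X ⟶ Y)
    (φ : Y.functionField ⟶ X.functionField) :
    (∃ hu : u.base (genericPoint X) = genericPoint Y,
      (Y.presheaf.stalkSpecializes (specializes_of_eq hu) ≫ u.stalkMap (genericPoint X)).hom = φ.hom) ↔
      X.fromSpecStalk (genericPoint X) ≫ u = Spec.map φ ≫ Y.fromSpecStalk (genericPoint Y) := by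
  have key : ∀ hu : u.base (genericPoint X) = genericPoint Y,
      X.fromSpecStalk (genericPoint X) ≫ u =
        Spec.map (Y.presheaf.stalkSpecializes (specializes_of_eq hu) ≫ u.stalkMap (genericPoint X)) ≫
          Y.fromSpecStalk (genericPoint Y) := fun hu => by
    rw [Spec.map_comp, Category.assoc, Scheme.SpecMap_stalkSpecializes_fromSpecStalk,
      Scheme.SpecMap_stalkMap_fromSpecStalk]
  refine ⟨?_, fun h => ?_⟩
  · rintro ⟨hu, e⟩
    rw [key hu]
    congr 2
    exact CommRingCat.hom_ext e
  · have hu : u.base (genericPoint X) = genericPoint Y := by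
      have h2 := congr($h (IsLocalRing.closedPoint (X.presheaf.stalk (genericPoint X))))
      rw [Scheme.Hom.comp_apply, Scheme.fromSpecStalk_closedPoint, Scheme.Hom.comp_apply] at h2
      refine h2.trans ?_
      have : Subsingleton (PrimeSpectrum Y.functionField) := inferInstance
      rw [show (Spec.map φ) (IsLocalRing.closedPoint (X.presheaf.stalk (genericPoint X))) =
        IsLocalRing.closedPoint (Y.presheaf.stalk (genericPoint Y)) from
          @Subsingleton.elim (PrimeSpectrum Y.functionField) this _ _]
      exact Scheme.fromSpecStalk_closedPoint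
    refine ⟨hu, congrArg CommRingCat.Hom.hom (Spec.map_injective ((cancel_mono
      (Y.fromSpecStalk (genericPoint Y))).1 ((key hu).symm.trans h)))⟩

end Groth.Agent.NormalCurve48
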